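import Cfsg.Agent.H32.Local.Basic
import Cfsg.Agent.H20.FirstMain
import Cfsg.Agent.H20.DefectApps

/-!
Groups of characteristic `p` type in which local subgroups normalise rigid `p`-groups have only blocks
of defect zero and of full defect.
-/

set_option autoImplicit false
set_option linter.unusedSectionVars false
set_option linter.style.haveILetI false

namespace H32.Local

open Cfsg
open scoped Classical

variable {G : Type*} [Group G] [Finite G] {p : ℕ} [Fact p.Prime] {M : Ideal AlgInt}

/-- A non-trivial defect group of a block is a Sylow subgroup. -/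
theorem card_defect_eq (h : CharPType p G) (hM : IsPModular p M) {B : Set (IrrCharacter G)}
    (hB : IsPBlock M B) {Dd : Subgroup G} (hD : IsDefectGroup p M B Dd) (hD1 : Dd ≠ ⊥) :
    Nat.card Dd = p ^ (Nat.card G).factorization p := by
  haveI := H20.isPrime_of_modular hM
  haveI := Fintype.ofFinite G
  have hDp : IsPGroup p Dd := H20.IsDefectGroup.isPGroup hD
  obtain ⟨R, hRp, hNR, hcen⟩ := h Dd hDp hD1
  set N := Subgroup.normalizer (Dd : Set G) with hN
  haveI : Fintype N := Fintype.ofFinite _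
  obtain ⟨b, hb, hbD, -⟩ := H20.first_main_exists hM hDp hB hD
  haveI : ((R ⊓ N).subgroupOf N).Normal := Subgroup.normal_subgroupOf_of_le_normalizer fun n hn => by
    refine Subgroup.mem_normalizer_iff.2 fun z => ⟨fun hz => ?_, fun hz => ?_⟩
    · exact ⟨(Subgroup.mem_normalizer_iff.1 (hNR hn) z).1 hz.1, N.mul_mem (N.mul_mem hn hz.2) (N.inv_mem hn)⟩
    · refine ⟨(Subgroup.mem_normalizer_iff.1 (hNR hn) z).2 hz.1, ?_⟩
      simpa [mul_assoc] using mul_mem (mul_mem (inv_mem hn) hz.2) hn
  have hinf : R ⊓ N ≤ Dd := fun z hz =>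
    Subgroup.mem_subgroupOf.1 (H20.normal_le_defectGroup hM hb (Q := (R ⊓ N).subgroupOf N)
      (hRp.to_le (inf_le_left : R ⊓ N ≤ R)).comap_subtype hbD (x := ⟨z, hz.2⟩) (Subgroup.mem_subgroupOf.2 hz))
  have hRD : R ≤ Dd := by
    by_contra hle
    have hDR : Dd ≤ Subgroup.normalizer (R : Set G) := Subgroup.le_normalizer.trans hNR
    have hSp : IsPGroup p ↥(R ⊔ Dd) := IsPGroup.to_sup_of_normal_left' hRp hDp hDR
    haveI : Group.IsNilpotent ↥(R ⊔ Dd) := hSp.isNilpotent
    have hlt : Dd.subgroupOf (R ⊔ Dd) < ⊤ := lt_top_iff_ne_top.2 fun h => hle fun z hz =>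
      Subgroup.mem_subgroupOf.1 (h ▸ Subgroup.mem_top (⟨z, Subgroup.mem_sup_left hz⟩ : ↥(R ⊔ Dd)))
    obtain ⟨z, hz, hzD⟩ := SetLike.exists_of_lt
      (Group.normalizerCondition_of_isNilpotent (Dd.subgroupOf (R ⊔ Dd)) hlt)
    have hzN : (z : G) ∈ N := Subgroup.mem_normalizer_iff.2 fun d => by
      constructor
      · intro hd
        exact Subgroup.mem_subgroupOf.1
          ((Subgroup.mem_normalizer_iff.1 hz ⟨d, Subgroup.mem_sup_right hd⟩).1
            (Subgroup.mem_subgroupOf.2 hd))
      · intro hd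
        have hdR : d ∈ R ⊔ Dd := by
          have := mul_mem (mul_mem (inv_mem z.2) (Subgroup.mem_sup_right (S := R) hd)) z.2
          simpa [mul_assoc] using this
        exact Subgroup.mem_subgroupOf.1 ((Subgroup.mem_normalizer_iff.1 hz ⟨d, hdR⟩).2
          (Subgroup.mem_subgroupOf.2 hd))
    -- split `z` along `R` and `Dd`
    obtain ⟨r, hr, d, hd, hrd⟩ : ∃ r ∈ R, ∃ d ∈ Dd, r * d = (z : G) := by
      have h1 : (z : G) ∈ ((R ⊔ Dd : Subgroup G) : Set G) := z.2
      rwa [Subgroup.coe_mul_of_right_le_normalizer_left R Dd hDR, Set.mem_mul] at h1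
    refine hzD (Subgroup.mem_subgroupOf.2 ?_)
    rw [← hrd]
    refine mul_mem (hinf ⟨hr, ?_⟩) hd
    rw [show r = (z : G) * d⁻¹ by rw [← hrd, mul_inv_cancel_right]]
    exact N.mul_mem hzN (N.inv_mem (Subgroup.le_normalizer hd))
  obtain ⟨c, hc, hSyl⟩ := id hD
  have hcC : c ∈ Subgroup.centralizer (Dd : Set G) := H20.IsSylC.mem_centralizer hSyl
  have hreg : ¬ p ∣ orderOf c :=
    H20.regular_of_coeff_ne_zero hM hB ((H20.isDefectClass_iff hB c).1 hc).1
  have hc1 : c = 1 := hcen c (Subgroup.centralizer_le_normalizer _ hcC) hreg fun r hr =>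
    (Subgroup.mem_centralizer_iff.1 hcC _ (hRD hr)).symm
  rw [H20.IsSylC.card hSyl, hc1]
  have htop : Subgroup.centralizer ({1} : Set G) = ⊤ :=
    eq_top_iff.2 fun x _ => Subgroup.mem_centralizer_singleton_iff.2 (by simp)
  rw [htop, Subgroup.card_top]

/-- Every block has defect zero or full defect. -/
theorem defect_zero_or_full (h : CharPType p G) (hM : IsPModular p M) (B : Set (IrrCharacter G))
    (hB : IsPBlock M B) :
    blockDefect p B = 0 ∨ blockDefect p B = (Nat.card G).factorization p := by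
  haveI := H20.isPrime_of_modular hM
  haveI := Fintype.ofFinite G
  obtain ⟨Dd, hD⟩ := H20.exists_defectGroup hM hB
  have hc := H20.card_defectGroup hM hB hD
  by_cases hD1 : Dd = ⊥
  · left
    subst hD1
    rw [Subgroup.card_bot] at hc
    exact ((Nat.pow_eq_one).1 hc.symm).resolve_left (Fact.out : p.Prime).one_lt.ne'
  · right
    rw [card_defect_eq h hM hB hD hD1] at hc
    exact (Nat.pow_right_injective (Fact.out : p.Prime).two_le hc).symm

end H32.Local
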